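import Mathlib.GroupTheory.Transfer
import Mathlib.GroupTheory.SpecificGroups.Cyclic
import Cfsg.Agent.S0448
import Cfsg.Agent.S1644
import Cfsg.Agent.WeakClosureJ1.Kill

/-!
The component generates the first Janko group.
-/

set_option autoImplicit false
set_option linter.unusedSectionVars false
set_option linter.style.haveILetI false

namespace CfsgLib.WeakJ1

open Subgroup CfsgLib.JankoOrder
open scoped Pointwise commutatorElement

universe u

variable {G : Type u} [Group G] [Finite G]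

theorem vw_sq : (vK : Cen) * wK * (vK * wK) = 1 := by decide +kernel

/-- A finite group of odd order with two commuting fixed-point-free automorphisms of order two whose
product is also fixed-point-free is trivial. -/
theorem odd_eq_bot {H : Type*} [Group H] [Finite H] {N : Subgroup H} (hN : Odd (Nat.card N)) {a b : H}
    (ha : a * a = 1) (hb : b * b = 1) (hab : a * b = b * a) (hNn : ∀ g : H, ∀ n ∈ N, g * n * g⁻¹ ∈ N)
    (fa : ∀ n ∈ N, a * n = n * a → n = 1) (fb : ∀ n ∈ N, b * n = n * b → n = 1)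
    (fab : ∀ n ∈ N, a * b * n = n * (a * b) → n = 1) : N = ⊥ := by
  have inv : ∀ c : H, c * c = 1 → (∀ n ∈ N, c * n = n * c → n = 1) → ∀ n ∈ N, c * n * c⁻¹ = n⁻¹ := by
    intro c hc fc n hn
    let f : N → N := fun m => ⟨(m : H)⁻¹ * (c * m * c⁻¹), mul_mem (inv_mem m.2) (hNn c m m.2)⟩
    have hf : Function.Surjective f := Finite.injective_iff_surjective.mp fun p q hpq => by
      have h : (p : H)⁻¹ * (c * p * c⁻¹) = (q : H)⁻¹ * (c * q * c⁻¹) := congrArg Subtype.val hpq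
      have h2 : c * ((q : H) * (p : H)⁻¹) = (q : H) * (p : H)⁻¹ * c := by
        calc c * ((q : H) * (p : H)⁻¹) = q * ((q : H)⁻¹ * (c * q * c⁻¹)) * (c * p * c⁻¹)⁻¹ * c := by group
        _ = (q : H) * (p : H)⁻¹ * c := by rw [← h]; group
      exact Subtype.ext (mul_inv_eq_one.mp (fc _ (mul_mem q.2 (inv_mem p.2)) h2)).symm
    obtain ⟨m, hm⟩ := hf ⟨n, hn⟩
    have hm' : (m : H)⁻¹ * (c * m * c⁻¹) = n := congrArg Subtype.val hm
    have ci : c⁻¹ = c := inv_eq_of_mul_eq_one_right hc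
    rw [← hm', ci]
    calc c * ((m : H)⁻¹ * (c * m * c)) * c = c * (m : H)⁻¹ * c * m * (c * c) := by group
    _ = c * (m : H)⁻¹ * c * m := by rw [hc, mul_one]
    _ = ((m : H)⁻¹ * (c * m * c))⁻¹ := by
      rw [mul_inv_rev, inv_inv, mul_inv_rev, mul_inv_rev, ci]; group
  refine (eq_bot_iff_forall _).mpr fun n hn => fab n hn ?_
  have h1 : a * b * n * (a * b)⁻¹ = n := by
    calc a * b * n * (a * b)⁻¹ = a * (b * n * b⁻¹) * a⁻¹ := by group
    _ = a * n⁻¹ * a⁻¹ := by rw [inv b hb fb n hn]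
    _ = (a * n * a⁻¹)⁻¹ := by group
    _ = n := by rw [inv a ha fa n hn, inv_inv]
  calc a * b * n = a * b * n * (a * b)⁻¹ * (a * b) := by group
  _ = n * (a * b) := by rw [h1]

/-- A perfect group with abelian Sylow subgroups has trivial centre. -/
theorem center_trivial {H : Type*} [Group H] [Finite H] (hperf : commutator H = ⊤) {Z : Subgroup H}
    (hZ : Z ≤ center H) (hab : ∀ (p : ℕ) [Fact p.Prime] (P : Sylow p H), ∀ a ∈ P, ∀ b ∈ P, a * b = b * a) :
    Z = ⊥ := by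
  by_contra hne
  obtain ⟨p, hp, hpd⟩ := Nat.exists_prime_and_dvd (mt (card_eq_one.mp) hne)
  haveI := Fact.mk hp
  obtain ⟨z, hz⟩ := exists_prime_orderOf_dvd_card' p hpd
  have hz' : orderOf (z : H) = p := by rw [Subgroup.orderOf_coe]; exact hz
  have hzc : ∀ g : H, g * z = z * g := fun g => (mem_center_iff.mp (hZ z.2)) g
  have hzp : IsPGroup p (zpowers (z : H)) := IsPGroup.of_card (n := 1) (by rw [Nat.card_zpowers, hz', pow_one])
  obtain ⟨P, hP⟩ := hzp.exists_le_sylow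
  haveI : IsMulCommutative (P : Subgroup H) := ⟨⟨fun a b => Subtype.ext (hab p P a a.2 b b.2)⟩⟩
  letI : CommGroup (P : Subgroup H) :=
    { (inferInstance : Group (P : Subgroup H)) with mul_comm := fun a b => Subtype.ext (hab p P a a.2 b b.2) }
  have key : ∀ (k : ℕ) (g₀ : H), g₀⁻¹ * (z : H) ^ k * g₀ ∈ (P : Subgroup H) → g₀⁻¹ * (z : H) ^ k * g₀ = (z : H) ^ k := by
    intro k g₀ _
    have hc : Commute g₀ ((z : H) ^ k) := (show Commute g₀ (z : H) from hzc g₀).pow_right k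
    rw [mul_assoc, ← hc.eq, inv_mul_cancel_left]
  have h1 := MonoidHom.transfer_eq_pow (MonoidHom.id (P : Subgroup H)) (z : H) key
  have hker : commutator H ≤ (MonoidHom.transfer (MonoidHom.id (P : Subgroup H))).ker :=
    Abelianization.commutator_subset_ker _
  rw [hperf] at hker
  rw [MonoidHom.mem_ker.mp (hker (mem_top (z : H)))] at h1
  have h2 : (z : H) ^ (P : Subgroup H).index = 1 := (congrArg Subtype.val h1).symm
  have h3 := orderOf_dvd_of_pow_eq_one h2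
  rw [hz'] at h3
  exact P.not_dvd_index h3

namespace Sys

variable (D : Sys G)

/-- the subgroup generated by the component -/
def H : Subgroup G := closure D.Δ

theorem H_le_M : D.H ≤ D.M := (closure_le _).mpr fun x hx => by
  obtain ⟨m, hm, rfl⟩ := D.exists_conj_Δ hx
  exact mul_mem (mul_mem hm (D.cent_le_M rfl)) (inv_mem hm)

theorem Δ_le_H {x : G} (hx : x ∈ D.Δ) : x ∈ D.H := subset_closure hx

theorem X_inter_H {x : G} (hx : x ∈ D.X) (hH : x ∈ D.H) : x ∈ D.Δ := D.X_inter_M hx (D.H_le_M hH)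

theorem W_le_H : D.W ≤ D.H := D.W_induction fun _ hx hxt => D.Δ_le_H (D.Δ_adj D.t_mem_Δ hx hxt.symm)

theorem E_le_H : D.E ≤ D.H := D.E_le_W.trans D.W_le_H

theorem M_conj_H {m : G} (hm : m ∈ D.M) {h : G} (hh : h ∈ D.H) : m * h * m⁻¹ ∈ D.H := by
  have hle : D.H ≤ D.H.comap (MulAut.conj m).toMonoidHom :=
    (closure_le _).mpr fun x hx => subset_closure (D.M_conj hm hx)
  exact hle hh

theorem H_comm_C {h : G} (hh : h ∈ D.H) {c : G} (hc : c ∈ D.C) : h * c = c * h := by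
  have hle : D.H ≤ centralizer ({c} : Set G) :=
    (closure_le _).mpr fun x hx => mem_centralizer_singleton_iff.mpr (D.C_comm hc hx).symm
  exact mem_centralizer_singleton_iff.mp (hle hh)

/-- the centre of `H`, as a subgroup of `H` -/
def Z : Subgroup D.H := D.C.subgroupOf D.H

theorem Z_le_center : D.Z ≤ center D.H := fun z hz =>
  mem_center_iff.mpr fun h => Subtype.ext (D.H_comm_C h.2 hz)

instance Z_normal : D.Z.Normal :=
  ⟨fun z hz g => by rw [(mem_center_iff.mp (D.Z_le_center hz)) g, mul_inv_cancel_right]; exact hz⟩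

/-- the embedding of `2 × A₅` conjugated by `m ∈ M`, into `H` -/
def ψ (m : D.M) : Cen →* D.H :=
  ((MulAut.conj (m : G)).toMonoidHom.comp D.φ).codRestrict D.H fun k => D.M_conj_H m.2 (D.W_le_H ⟨k, rfl⟩)

theorem ψ_val (m : D.M) (k : Cen) : (D.ψ m k : G) = m * D.φ k * (m : G)⁻¹ := rfl

/-- an element commuting with a conjugate of `t` modulo the centre lies in the conjugate of `W` times the centre -/
theorem cent_mod {m : D.M} {h : D.H} (hc : (h * D.ψ m tK)⁻¹ * (D.ψ m tK * h) ∈ D.Z) :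
    ∃ k : Cen, (D.ψ m k)⁻¹ * h ∈ D.Z := by
  set u := (m : G)⁻¹ * h * m with hu
  have hc' : (h * D.ψ m tK : G)⁻¹ * (D.ψ m tK * h) ∈ D.C := hc
  have h1 : (u * D.t)⁻¹ * (D.t * u) ∈ D.C := by
    have e1 : (u * D.t)⁻¹ * (D.t * u) =
        (m : G)⁻¹ * ((h * D.ψ m tK : G)⁻¹ * (D.ψ m tK * h)) * (m : G)⁻¹⁻¹ := by
      rw [hu, ψ_val, show D.φ tK = D.t from rfl]; group
    rw [e1]
    exact D.M_conj_C (inv_mem m.2) hc'
  have hcomm : u * D.t = D.t * u := by
    set x := u⁻¹ * D.t * u⁻¹⁻¹ with hx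
    have e2 : (u * D.t)⁻¹ * (D.t * u) = D.t⁻¹ * x := by rw [hx]; group
    rw [e2] at h1
    have hxX : x ∈ D.X := D.conj_X D.t_mem_X _
    have hxc : x * D.t = D.t * x := by
      have := D.C_comm h1 D.t_mem_Δ
      calc x * D.t = D.t * ((D.t⁻¹ * x) * D.t) := by group
      _ = D.t * (D.t * (D.t⁻¹ * x)) := by rw [this]
      _ = D.t * x := by group
    have h3 := D.W_inf_C (mul_mem (inv_mem D.t_mem_W) (D.mem_W hxX hxc)) h1
    have h4 : D.t = x := inv_mul_eq_one.mp h3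
    calc u * D.t = u * x := by rw [← h4]
    _ = D.t * u := by rw [hx]; group
  obtain ⟨w', ⟨k, rfl⟩, d, hd, hud⟩ := D.cent_t_W_C hcomm
  refine ⟨k, ?_⟩
  show ((D.ψ m k : G))⁻¹ * h ∈ D.C
  have e3 : (D.ψ m k : G)⁻¹ * h = (m : G) * ((D.φ k)⁻¹ * u) * (m : G)⁻¹ := by rw [ψ_val, hu]; group
  rw [e3, hud, inv_mul_cancel_left]
  exact D.M_conj_C m.2 hd

theorem ψ_inj_mod {m : D.M} {k : Cen} (h : D.ψ m k ∈ D.Z) : k = 1 := by
  have h1 : (m : G) * D.φ k * (m : G)⁻¹ ∈ D.C := h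
  have h2 := D.M_conj_C (inv_mem m.2) h1
  rw [show (m : G)⁻¹ * ((m : G) * D.φ k * (m : G)⁻¹) * (m : G)⁻¹⁻¹ = D.φ k by group] at h2
  exact D.inj (by rw [map_one]; exact D.W_inf_C ⟨k, rfl⟩ h2)

/-- the element `σ ^ i` of `M` -/
noncomputable def σM (i : Fin 7) : D.M := ⟨D.σ ^ i.val, pow_mem D.σ_mem_M _⟩

theorem ψ_σ_t (i : Fin 7) : (D.ψ (D.σM i) tK : G) = D.εF i := rfl

theorem exists_sylow_H : ∃ T : Sylow 2 D.H, D.E.subgroupOf D.H ≤ T ∧ ∀ x ∈ T, ∃ e ∈ D.E, (x : G) * e ∈ D.C := by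
  haveI : Fact (Nat.Prime 2) := ⟨Nat.prime_two⟩
  have hE2 : IsPGroup 2 (D.E.subgroupOf D.H) :=
    IsPGroup.comap_of_injective (D.S.2.to_le D.E_le_S) D.H.subtype D.H.subtype_injective
  obtain ⟨T, hT⟩ := hE2.exists_le_sylow
  refine ⟨T, hT, fun x hx => ?_⟩
  have hSM : (D.S : Subgroup G) ≤ D.M := fun s hs => D.cent_le_M (D.tc s hs)
  set TM : Subgroup D.M := ((T : Subgroup D.H).map D.H.subtype).subgroupOf D.M
  have hTM : IsPGroup 2 TM := IsPGroup.comap_of_injective (T.2.map _) D.M.subtype D.M.subtype_injective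
  obtain ⟨T', hT'⟩ := hTM.exists_le_sylow
  obtain ⟨m, hm⟩ := MulAction.exists_smul_eq D.M (D.S.subtype hSM) T'
  have hin : ∀ y : D.H, y ∈ T → (m : G)⁻¹ * y * m ∈ (D.S : Subgroup G) := by
    intro y hy
    have h1 : (⟨y, D.H_le_M y.2⟩ : D.M) ∈ T' := hT' ⟨y, hy, rfl⟩
    rw [← hm] at h1
    have h2 : (⟨y, D.H_le_M y.2⟩ : D.M) ∈ ((m • D.S.subtype hSM : Sylow 2 D.M) : Subgroup D.M) := h1
    rw [Sylow.coe_subgroup_smul, mem_pointwise_smul_iff_inv_smul_mem] at h2
    simpa [MulAut.smul_def, Subgroup.mem_subgroupOf, mul_assoc] using h2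
  have hce : ∀ e ∈ D.E, e * x = x * e := by
    intro e he
    have he' : (m : G)⁻¹ * e * m ∈ D.E := by
      rcases eq_or_ne e 1 with rfl | h1
      · simp
      · refine D.X_S ?_ (hin ⟨e, D.E_le_H he⟩ (hT he))
        simpa using D.conj_X (D.E_sub_X he h1) (m : G)⁻¹
    have h3 := mem_centralizer_iff.mp (D.S_cent (hin x hx)) _ he'
    calc e * x = m * (((m : G)⁻¹ * e * m) * ((m : G)⁻¹ * x * m)) * (m : G)⁻¹ := by group
    _ = x * e := by rw [h3]; group
  obtain ⟨e0, he0, k, hk, hek⟩ := D.cent_E_split (mem_centralizer_iff.mpr hce)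
  obtain ⟨e1, he1, c, hc, rfl⟩ := D.K_split hk
  refine ⟨(e0 * e1)⁻¹, inv_mem (mul_mem he0 he1), ?_⟩
  rw [hek, show e0 * (e1 * c) = (e0 * e1) * c by group, mul_assoc, D.C_E_comm hc (inv_mem (mul_mem he0 he1)),
    mul_inv_cancel_left]
  exact hc

theorem normal_contains_E {N : Subgroup D.H} (hN : N.Normal) (ht : ∀ n : D.H, (n : G) = D.t → n ∈ N) :
    ∀ e : D.H, (e : G) ∈ D.E → e ∈ N := by
  obtain ⟨p1, p2, p3, p4⟩ := D.τ_perm
  obtain ⟨n1, n2, n3, n4, n5, n6, n7, n8, n9, m1, m2, m3⟩ := D.vw_facts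
  have htv : D.t * D.v ≠ 1 := fun h => n1 (by
    rw [eq_inv_of_mul_eq_one_right h, inv_eq_of_mul_eq_one_right D.t_sq])
  obtain ⟨i, hi⟩ := D.εF_surj (mul_mem D.t_mem D.v_mem) htv
  -- the normal subgroup seen from a translate
  let P : Subgroup G :=
    ((N.map D.H.subtype).comap (MulAut.conj ((D.σ ^ i.val)⁻¹)).toMonoidHom)
  have hPmem : ∀ g : G, g ∈ P ↔ ∃ n ∈ N, (n : G) = (D.σ ^ i.val)⁻¹ * g * (D.σ ^ i.val)⁻¹⁻¹ := fun g => Iff.rfl
  have hσi : (D.σ ^ i.val)⁻¹ ∈ D.M := inv_mem (pow_mem D.σ_mem_M _)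
  have hPn : ∀ g ∈ D.W, ∀ p ∈ P, g * p * g⁻¹ ∈ P := by
    intro g hg p hp
    obtain ⟨n, hn, hne⟩ := (hPmem p).mp hp
    refine (hPmem _).mpr ⟨_, hN.conj_mem n hn ⟨_, D.M_conj_H hσi (D.W_le_H hg)⟩, ?_⟩
    push_cast
    rw [hne]; group
  have htvP : D.t * D.v ∈ P := by
    have he : D.εF i = D.σ ^ i.val * D.t * (D.σ ^ i.val)⁻¹ := rfl
    refine (hPmem _).mpr ⟨⟨D.t, D.E_le_H D.t_mem⟩, ht _ rfl, ?_⟩
    show D.t = _
    rw [← hi, he]; group
  have hτW : D.τ ∈ D.W := ⟨xK, rfl⟩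
  have hvwP : D.t * (D.v * D.w) ∈ P := by
    have := hPn _ hτW _ htvP
    rwa [show D.τ * (D.t * D.v) * D.τ⁻¹ = (D.τ * D.t * D.τ⁻¹) * (D.τ * D.v * D.τ⁻¹) by group, p4, p1] at this
  have hw : D.w ∈ P := by
    have := mul_mem htvP hvwP
    rwa [show D.t * D.v * (D.t * (D.v * D.w)) = (D.t * (D.v * D.t)) * D.v * D.w by group,
      D.E_comm D.v_mem D.t_mem, ← mul_assoc D.t, D.t_sq, one_mul, D.E_sq D.v_mem, one_mul] at this
  have hv : D.v ∈ P := by
    have := hPn _ hτW _ hw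
    rwa [p3] at this
  have htP : D.t ∈ P := by
    have := mul_mem htvP hv
    rwa [mul_assoc, D.E_sq D.v_mem, mul_one] at this
  have hEP : D.E ≤ P := D.E_le_of htP hv hw
  intro e he
  have h2 := hEP (D.σpow_E i.val he)
  obtain ⟨n, hn, hne⟩ := (hPmem _).mp h2
  have : n = e := Subtype.ext (by rw [hne]; group)
  exact this ▸ hn

/-- A normal subgroup of `H` meeting the component is everything. -/
theorem normal_top {N : Subgroup D.H} (hN : N.Normal) {x : D.H} (hxN : x ∈ N) (hx : (x : G) ∈ D.Δ) : N = ⊤ := by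
  -- all translates
  have key : ∀ m : D.M, (∀ n : D.H, (n : G) = m * D.t * (m : G)⁻¹ → n ∈ N) →
      ∀ y : D.H, (y : G) ∈ D.X → (y : G) * (m * D.t * (m : G)⁻¹) = m * D.t * (m : G)⁻¹ * y → y ∈ N := by
    intro m hm y hy hyc
    let f : D.H →* D.H := ((MulAut.conj (m : G)).toMonoidHom.comp D.H.subtype).codRestrict D.H fun h =>
      D.M_conj_H m.2 h.2
    have hfs : Function.Surjective f := fun h =>
      ⟨⟨_, D.M_conj_H (inv_mem m.2) h.2⟩, Subtype.ext (by
        show (m : G) * ((m : G)⁻¹ * h * (m : G)⁻¹⁻¹) * (m : G)⁻¹ = h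
        group)⟩
    have hE := D.normal_contains_E (hN.comap f) (fun n hn => hm _ (by
      show (m : G) * n * (m : G)⁻¹ = _
      rw [hn]))
    obtain ⟨w', hw', a, ha, -, hya⟩ := D.mem_W_split (x := (m : G)⁻¹ * y * m) (by simpa using D.conj_X hy (m : G)⁻¹) (by
      calc (m : G)⁻¹ * y * m * D.t = (m : G)⁻¹ * ((y : G) * (m * D.t * (m : G)⁻¹)) * m := by group
      _ = D.t * ((m : G)⁻¹ * y * m) := by rw [hyc]; group)
    set Y : D.H := ⟨(m : G)⁻¹ * y * m, by simpa using D.M_conj_H (inv_mem m.2) y.2⟩ with hY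
    have hYN : Y ∈ N.comap f := by
      have e1 : Y = (⟨w', D.W_le_H hw'⟩ : D.H) * ⟨a, D.E_le_H ha⟩ * (⟨w', D.W_le_H hw'⟩ : D.H)⁻¹ :=
        Subtype.ext hya
      rw [e1]
      exact (hN.comap f).conj_mem _ (hE _ ha) _
    have e2 : f Y = y := Subtype.ext (by
      show (m : G) * ((m : G)⁻¹ * y * m) * (m : G)⁻¹ = y
      group)
    exact e2 ▸ hYN
  have hall : ∀ y : G, Relation.ReflTransGen D.Adj x y → ∀ n : D.H, (n : G) = y → n ∈ N := by
    intro y hy
    induction hy with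
    | refl => intro n hn; exact (Subtype.ext hn : n = x) ▸ hxN
    | tail hab hbc ih =>
      intro n hn
      obtain ⟨m, hm, hmt⟩ := D.exists_conj_Δ (x := _) (Relation.ReflTransGen.trans hx hab)
      refine key ⟨m, hm⟩ (fun k hk => ih k (hk.trans hmt.symm)) n (hn ▸ hbc.2.1) ?_
      rw [hn, ← hmt]; exact hbc.2.2.symm
  refine (eq_top_iff' _).mpr fun h => ?_
  have hle : D.H ≤ N.map D.H.subtype := (closure_le _).mpr fun y hy =>
    ⟨⟨y, D.Δ_le_H hy⟩, hall y ((D.rel_symm hx).trans hy) _ rfl, rfl⟩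
  obtain ⟨n, hn, hne⟩ := hle h.2
  exact (Subtype.ext hne : n = h) ▸ hn

theorem H_perfect : commutator D.H = ⊤ := by
  obtain ⟨p, q, hpq⟩ := commutators.1
  refine D.normal_top inferInstance (x := ⟨D.v, D.E_le_H D.v_mem⟩) ?_
    (D.E_sub_Δ D.v_mem D.vw_facts.2.2.2.2.2.2.2.2.2.1)
  have hp : D.φ p ∈ D.H := D.W_le_H ⟨p, rfl⟩
  have hq : D.φ q ∈ D.H := D.W_le_H ⟨q, rfl⟩
  have e : (⟨D.v, D.E_le_H D.v_mem⟩ : D.H) = ⁅(⟨_, hp⟩ : D.H), ⟨_, hq⟩⁆ := Subtype.ext (by
    show D.v = _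
    rw [v, ← hpq, commutatorElement_def]
    simp)
  rw [e]
  exact commutator_mem_commutator (mem_top _) (mem_top _)

/-- the factor group of `H` by its centre -/
abbrev Q : Type u := D.H ⧸ D.Z

/-- the embedding into the factor group -/
def χ (m : D.M) : Cen →* D.Q := (QuotientGroup.mk' D.Z).comp (D.ψ m)

theorem χ_inj (m : D.M) : Function.Injective (D.χ m) := by
  refine (injective_iff_map_eq_one _).mpr fun k hk => D.ψ_inj_mod (m := m) ?_
  exact (QuotientGroup.eq_one_iff _).mp hk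

theorem χ_cent {m : D.M} {q : D.Q} (h : q * D.χ m tK = D.χ m tK * q) : ∃ k, D.χ m k = q := by
  obtain ⟨h', rfl⟩ := QuotientGroup.mk_surjective q
  obtain ⟨k, hk⟩ := D.cent_mod (m := m) (h := h') (QuotientGroup.eq.mp h)
  exact ⟨k, QuotientGroup.eq.mpr hk⟩

theorem exists_sylow_Q : ∃ T : Sylow 2 D.Q, ∀ q ∈ T, ∃ k : Cen, k * vK = vK * k ∧ D.χ 1 k = q := by
  haveI : Fact (Nat.Prime 2) := ⟨Nat.prime_two⟩
  obtain ⟨T, -, hT⟩ := D.exists_sylow_H
  refine ⟨T.mapSurjective (QuotientGroup.mk'_surjective D.Z), ?_⟩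
  rintro q ⟨x, hx, rfl⟩
  obtain ⟨e, he, hc⟩ := hT x hx
  obtain ⟨k, hk, hke⟩ := D.mem_E.mp he
  refine ⟨k⁻¹, ?_, ?_⟩
  · calc k⁻¹ * vK = k⁻¹ * (vK * k) * k⁻¹ := by group
    _ = vK * k⁻¹ := by rw [← hk]; group
  · refine QuotientGroup.eq.mpr ?_
    show ((D.ψ 1 k⁻¹ : D.H) : G)⁻¹ * (x : G) ∈ D.C
    rw [ψ_val, map_inv, hke]
    have : (((1 : D.M) : G) * e⁻¹ * ((1 : D.M) : G)⁻¹)⁻¹ * (x : G) = e * ((x : G) * e) * e⁻¹ := by
      simp [mul_assoc]
    rw [this, ← D.C_E_comm hc he, mul_inv_cancel_right]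
    exact hc

theorem Q_simple : IsSimpleGroup D.Q := by
  haveI : Fact (Nat.Prime 2) := ⟨Nat.prime_two⟩
  haveI : Nontrivial D.Q := ⟨⟨D.χ 1 tK, 1, fun h => tK_ne (D.χ_inj 1 (h.trans (map_one _).symm))⟩⟩
  refine ⟨fun N hN => ?_⟩
  set N' := N.comap (QuotientGroup.mk' D.Z)
  by_cases h2 : ∃ q ∈ N, orderOf q = 2
  · right
    obtain ⟨q, hq, hq2⟩ := h2
    obtain ⟨T, hT⟩ := D.exists_sylow_Q
    obtain ⟨T', hT'⟩ := (IsPGroup.of_card (n := 1) (show Nat.card (zpowers q) = 2 ^ 1 by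
      rw [Nat.card_zpowers, hq2]; norm_num) : IsPGroup 2 (zpowers q)).exists_le_sylow
    obtain ⟨g, hg⟩ := MulAction.exists_smul_eq D.Q T' T
    have h1 : g * q * g⁻¹ ∈ ((g • T' : Sylow 2 D.Q) : Subgroup D.Q) := by
      rw [Sylow.coe_subgroup_smul, mem_pointwise_smul_iff_inv_smul_mem]
      simpa [MulAut.smul_def, mul_assoc] using hT' (mem_zpowers q)
    rw [hg] at h1
    obtain ⟨k, hk, hkq⟩ := hT _ h1
    have hk1 : k ≠ 1 := fun e => by
      rw [e, map_one] at hkq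
      have : q = 1 := by
        calc q = g⁻¹ * (g * q * g⁻¹) * g := by group
        _ = 1 := by rw [← hkq]; group
      rw [this, orderOf_one] at hq2; omega
    have hmem : D.ψ 1 k ∈ N' := by
      show D.χ 1 k ∈ N
      rw [hkq]; exact hN.conj_mem q hq g
    have hΔ : ((D.ψ 1 k : D.H) : G) ∈ D.Δ := by
      rw [ψ_val, OneMemClass.coe_one, one_mul, inv_one, mul_one]
      exact D.E_sub_Δ (D.mem_E.mpr ⟨k, hk, rfl⟩) (fun e => hk1 (D.inj (by rw [e, map_one])))
    have := D.normal_top (hN.comap _) hmem hΔ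
    exact comap_injective (QuotientGroup.mk'_surjective D.Z) (by rw [this, comap_top])
  · left
    have hodd : Odd (Nat.card N) := by
      rw [← Nat.not_even_iff_odd, even_iff_two_dvd]
      intro h
      obtain ⟨q, hq⟩ := exists_prime_orderOf_dvd_card' 2 h
      exact h2 ⟨q, q.2, by rw [Subgroup.orderOf_coe]; exact hq⟩
    have hfix : ∀ m : D.M, ∀ n ∈ N, D.χ m tK * n = n * D.χ m tK → n = 1 := by
      intro m n hn hc
      obtain ⟨k, rfl⟩ := D.χ_cent hc.symm
      have h15 : ∀ l : Cen, D.χ m l ∈ N → l ^ 15 = 1 := by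
        intro l hl
        rcases even_part l with h | ⟨ha, hb⟩
        · exact h
        · exfalso
          refine h2 ⟨D.χ m (l ^ 15), by rw [map_pow]; exact pow_mem hl _, orderOf_eq_prime ?_ ?_⟩
          · rw [pow_two, ← map_mul, ha, map_one]
          · exact fun e => hb (D.χ_inj m (e.trans (map_one _).symm))
      have hcj : ∀ a : Cen, a * a = 1 → D.χ m (a * k⁻¹ * a) ∈ N := by
        intro a ha
        rw [map_mul, map_mul, map_inv]
        conv in (D.χ m a * _ * D.χ m a) => arg 2; rw [show D.χ m a = (D.χ m a)⁻¹ from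
          (inv_eq_of_mul_eq_one_right (by rw [← map_mul, ha, map_one])).symm]
        exact hN.conj_mem _ (inv_mem hn) _
      have s1 : (vK : Cen) * vK = 1 := vK_facts.1
      have s2 : wK * wK = 1 := v_elems.2.2.1
      have s3 : vK * wK * (vK * wK) = 1 := vw_sq
      have hprod : ∀ a b : Cen, a * a = 1 → b * b = 1 →
          (k * (a * k⁻¹ * a) * k * (b * k⁻¹ * b)) ^ 15 = 1 := fun a b ha hb => h15 _ (by
        rw [map_mul, map_mul, map_mul]
        exact mul_mem (mul_mem (mul_mem hn (hcj a ha)) hn) (hcj b hb))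
      have hk1 : k = 1 := (odd_invariant k).resolve_left
        (fun h => h ⟨h15 k hn, hprod _ _ s2 s3, hprod _ _ s1 s2, hprod _ _ s1 s3⟩)
      rw [hk1, map_one]
    have he : ∀ e ∈ D.E, e ≠ 1 → ∀ he' : e ∈ D.H, ∀ n ∈ N,
        (QuotientGroup.mk ⟨e, he'⟩ : D.Q) * n = n * QuotientGroup.mk ⟨e, he'⟩ → n = 1 := by
      intro e hee h1 he' n hn hc
      obtain ⟨i, hi⟩ := D.εF_surj hee h1
      have e1 : D.χ (D.σM i) tK = QuotientGroup.mk ⟨e, he'⟩ := congrArg _ (Subtype.ext ((D.ψ_σ_t i).trans hi))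
      exact hfix (D.σM i) n hn (by rw [e1]; exact hc)
    have hvw := mul_mem D.v_mem D.w_mem
    obtain ⟨n1, n2, n3, n4, n5, n6, n7, n8, n9, m1, m2, m3⟩ := D.vw_facts
    refine odd_eq_bot hodd (a := QuotientGroup.mk ⟨D.v, D.E_le_H D.v_mem⟩)
      (b := QuotientGroup.mk ⟨D.w, D.E_le_H D.w_mem⟩) ?_ ?_ ?_ (fun g n hn => hN.conj_mem n hn g)
      (he _ D.v_mem m1 _) (he _ D.w_mem m2 _) ?_
    · rw [← QuotientGroup.mk_mul, show (⟨D.v, D.E_le_H D.v_mem⟩ : D.H) * ⟨D.v, D.E_le_H D.v_mem⟩ = 1 from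
        Subtype.ext (D.E_sq D.v_mem)]; rfl
    · rw [← QuotientGroup.mk_mul, show (⟨D.w, D.E_le_H D.w_mem⟩ : D.H) * ⟨D.w, D.E_le_H D.w_mem⟩ = 1 from
        Subtype.ext (D.E_sq D.w_mem)]; rfl
    · rw [← QuotientGroup.mk_mul, ← QuotientGroup.mk_mul]
      exact congrArg _ (Subtype.ext (D.E_comm D.v_mem D.w_mem))
    · intro n hn hc
      rw [← QuotientGroup.mk_mul] at hc
      exact he _ hvw m3 _ n hn hc

theorem Q_facts : Cfsg.IsJ1 D.Q ∧ Cfsg.Spor.IsoJ1 D.Q := by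
  haveI : Fact (Nat.Prime 2) := ⟨Nat.prime_two⟩
  haveI := D.Q_simple
  obtain ⟨T, hT⟩ := D.exists_sylow_Q
  set Ec := centralizer ({vK} : Set Cen)
  have hle : Ec.map (D.χ 1) ≤ centralizer ({D.χ 1 tK} : Set D.Q) := by
    rintro _ ⟨k, -, rfl⟩
    exact mem_centralizer_singleton_iff.mpr (by rw [← map_mul, ← map_mul, tK_comm])
  have hT' : (T : Subgroup D.Q) = Ec.map (D.χ 1) := by
    have h1 : (T : Subgroup D.Q) ≤ Ec.map (D.χ 1) := fun q hq => by
      obtain ⟨k, hk, rfl⟩ := hT q hq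
      exact mem_map_of_mem _ (mem_centralizer_singleton_iff.mpr hk)
    refine (T.3 (IsPGroup.map ?_ _) h1).symm
    intro k
    refine ⟨1, Subtype.ext ?_⟩
    rcases v_sq k.1 with h | h
    · exact absurd (mem_centralizer_singleton_iff.mp k.2) h
    · simpa [pow_two] using h
  have ord : orderOf (D.χ 1 tK) = 2 := orderOf_eq_prime (by rw [pow_two, ← map_mul, tK_sq, map_one])
    (fun e => tK_ne (D.χ_inj 1 (e.trans (map_one _).symm)))
  let φc : Cen →* centralizer ({D.χ 1 tK} : Set D.Q) := (D.χ 1).codRestrict _ fun k =>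
    mem_centralizer_singleton_iff.mpr (by rw [← map_mul, ← map_mul, tK_comm])
  have hφc : Function.Bijective φc := by
    refine ⟨fun a b h => D.χ_inj 1 (congrArg Subtype.val h), fun q => ?_⟩
    obtain ⟨k, hk⟩ := D.χ_cent (mem_centralizer_singleton_iff.mp q.2)
    exact ⟨k, Subtype.ext hk⟩
  let e := (MulEquiv.ofBijective φc hφc).symm
  have htT : D.χ 1 tK ∈ (T : Subgroup D.Q) := by
    rw [hT']; exact mem_map_of_mem _ (mem_centralizer_singleton_iff.mpr (tK_comm vK).symm)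
  have hTc : ∀ x ∈ T, x * D.χ 1 tK = D.χ 1 tK * x := fun x hx =>
    mem_centralizer_singleton_iff.mp (hle (hT' ▸ hx))
  refine ⟨Cfsg.Agent.S0448.result _ ⟨ord, T, htT, hTc⟩ e,
    Cfsg.Agent.S1644.result T ⟨⟨fun a b => Subtype.ext ?_⟩⟩ ?_ _ ord e⟩
  · obtain ⟨a', ha, hae⟩ := hT _ a.2
    obtain ⟨b', hb, hbe⟩ := hT _ b.2
    show (a : D.Q) * b = b * a
    rw [← hae, ← hbe, ← map_mul, ← map_mul]
    congr 1
    have key : ∀ x y : Cen, x * vK = vK * x → y * vK = vK * y → x * y = y * x := by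
      intro x y hx hy
      have hxy : (x * y) * vK = vK * (x * y) := by rw [mul_assoc, hy, ← mul_assoc, hx, mul_assoc]
      have sx := (v_sq x).resolve_left (fun h => h hx)
      have sy := (v_sq y).resolve_left (fun h => h hy)
      have sxy := (v_sq _).resolve_left (fun h => h hxy)
      calc x * y = (x * y)⁻¹ := eq_inv_of_mul_eq_one_left sxy
      _ = y * x := by rw [mul_inv_rev, inv_eq_of_mul_eq_one_right sx, inv_eq_of_mul_eq_one_right sy]
    exact key _ _ ha hb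
  · show Nat.card (T : Subgroup D.Q) = 8
    rw [hT', ← Nat.card_congr (equivMapOfInjective Ec _ (D.χ_inj 1)).toEquiv, ← card_v, ← Nat.card_eq_fintype_card]
    exact Nat.card_congr (Equiv.subtypeEquivRight fun l => mem_centralizer_singleton_iff)

theorem Z_eq_bot : D.Z = ⊥ := by
  refine center_trivial D.H_perfect D.Z_le_center fun p hp P => ?_
  have hcard := D.Q_facts.1.2
  let f : (P : Subgroup D.H) →* D.Q := (QuotientGroup.mk' D.Z).comp (P : Subgroup D.H).subtype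
  by_cases h2 : p = 2
  · subst h2
    obtain ⟨T, -, hT⟩ := D.exists_sylow_H
    obtain ⟨g, hg⟩ := MulAction.exists_smul_eq D.H P T
    intro a ha b hb
    have hm : ∀ x ∈ P, g * x * g⁻¹ ∈ T := fun x hx => by
      have h1 : g * x * g⁻¹ ∈ ((g • P : Sylow 2 D.H) : Subgroup D.H) := by
        rw [Sylow.coe_subgroup_smul, mem_pointwise_smul_iff_inv_smul_mem]
        simp only [MulAut.smul_def, ← map_inv, MulAut.conj_apply]
        show g⁻¹ * (g * x * g⁻¹) * g⁻¹⁻¹ ∈ (P : Subgroup D.H)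
        rw [show g⁻¹ * (g * x * g⁻¹) * g⁻¹⁻¹ = x by group]
        exact hx
      rw [hg] at h1
      exact h1
    obtain ⟨e, he, hc⟩ := hT _ (hm a ha)
    obtain ⟨e', he', hc'⟩ := hT _ (hm b hb)
    set A := g * a * g⁻¹ with hA
    set B := g * b * g⁻¹ with hB
    have hAB : A * B = B * A := Subtype.ext (by
      show (A : G) * (B : G) = (B : G) * A
      have c1 : Commute ((A : G) * e) ((B : G) * e') := D.H_comm_C (mul_mem A.2 (D.E_le_H he)) hc'
      have c2 : Commute ((A : G) * e) e' := (D.C_E_comm hc he')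
      have c3 : Commute e ((B : G) * e') := (D.C_E_comm hc' he).symm
      have c4 : Commute e e' := D.E_comm he he'
      have c5 : Commute (A : G) ((B : G) * e') := by simpa using c1.mul_left c3.inv_left
      have c6 : Commute (A : G) e' := by simpa using c2.mul_left c4.inv_left
      exact (show Commute (A : G) (B : G) by simpa using c5.mul_right c6.inv_right).eq)
    calc a * b = g⁻¹ * (A * B) * g := by rw [hA, hB]; group
    _ = b * a := by rw [hAB, hA, hB]; group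
  · have hr : Nat.card f.range ∣ p := by
      obtain ⟨i, hi⟩ := IsPGroup.iff_card.mp (P.2.of_surjective f.rangeRestrict f.rangeRestrict_surjective)
      have hd : p ^ i ∣ 175560 := hi ▸ hcard ▸ f.range.card_subgroup_dvd_card
      rcases lt_or_ge i 2 with h | h
      · rw [hi]; interval_cases i <;> simp
      · exfalso
        have hd2 : p ^ 2 ∣ 175560 := (pow_dvd_pow p h).trans hd
        have hple : p ≤ 419 := by
          have := Nat.le_of_dvd (by norm_num) hd2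
          rw [pow_two] at this
          by_contra hlt
          nlinarith
        have hall : ∀ q : Fin 420, ¬ (q.val * q.val ∣ 175560) ∨ q.val < 3 := by decide +kernel
        rcases hall ⟨p, by omega⟩ with hh | hh
        · exact hh (by rw [← pow_two]; exact hd2)
        · have := hp.out.two_le; simp at hh; omega
    haveI : IsCyclic f.range := isCyclic_of_card_dvd_prime hr
    have hker : f.rangeRestrict.ker ≤ center (P : Subgroup D.H) := by
      intro x hx
      rw [MonoidHom.ker_rangeRestrict, MonoidHom.mem_ker] at hx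
      have hxZ : (x : D.H) ∈ D.Z := (QuotientGroup.eq_one_iff _).mp hx
      exact mem_center_iff.mpr fun y => Subtype.ext ((mem_center_iff.mp (D.Z_le_center hxZ)) y)
    have hcomm := (f.rangeRestrict.isMulCommutative_of_isCyclic_of_ker_le_center hker).is_comm.comm
    intro a ha b hb
    exact congrArg Subtype.val (hcomm ⟨a, ha⟩ ⟨b, hb⟩)

theorem iso_H : Cfsg.Spor.IsoJ1 D.H := by
  obtain ⟨e⟩ := D.Q_facts.2
  exact ⟨((QuotientGroup.quotientBot (G := D.H)).symm.trans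
    (QuotientGroup.quotientMulEquivOfEq D.Z_eq_bot.symm)).trans e⟩

theorem card_H : Nat.card D.H = 175560 := by
  rw [← D.Q_facts.1.2]
  exact Nat.card_congr ((QuotientGroup.quotientBot (G := D.H)).symm.trans
    (QuotientGroup.quotientMulEquivOfEq D.Z_eq_bot.symm)).toEquiv

theorem H_inf_C {x : G} (hH : x ∈ D.H) (hC : x ∈ D.C) : x = 1 := by
  have h : (⟨x, hH⟩ : D.H) ∈ D.Z := hC
  rw [D.Z_eq_bot, mem_bot] at h
  exact congrArg Subtype.val h

end Sys

end CfsgLib.WeakJ1
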