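import Cfsg.Agent.ZStar.Theorem
import Cfsg.Agent.Coprime.Generation
import Cfsg.Agent.WeakClosureJ1.Janko
import Cfsg.Agent.WeakClosureJ1.Bound

/-!
The component is the whole class.
-/

set_option autoImplicit false
set_option linter.unusedSectionVars false
set_option linter.style.haveILetI false

namespace CfsgLib.WeakJ1

open Subgroup CfsgLib.JankoOrder
open scoped Pointwise

universe u

variable {G : Type u} [Group G] [Finite G]

namespace Sys

variable (D : Sys G)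

theorem H_conj_ε (i : Fin 7) : ∃ h ∈ D.H, h * D.t * h⁻¹ = D.εF i := by
  obtain ⟨p1, p2, p3, p4⟩ := D.τ_perm
  obtain ⟨n1, n2, n3, n4, n5, n6, n7, n8, n9, m1, m2, m3⟩ := D.vw_facts
  obtain ⟨a, ha⟩ := D.εF_surj D.v_mem m1
  obtain ⟨b, hb⟩ := D.εF_surj (mul_mem D.v_mem D.w_mem) m3
  set d := b - a with hd
  have hd0 : d ≠ 0 := fun e => n5 (ha.symm.trans ((congrArg D.εF (sub_eq_zero.mp e).symm).trans hb))
  have step : ∀ k : Fin 7, ∃ h ∈ D.H, h * D.εF k * h⁻¹ = D.εF (k + d) := by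
    intro k
    set m := k - a with hm
    refine ⟨D.σ ^ m.val * D.τ * (D.σ ^ m.val)⁻¹, D.M_conj_H (pow_mem D.σ_mem_M _) (D.W_le_H ⟨xK, rfl⟩), ?_⟩
    have e1 : D.εF k = D.σ ^ m.val * D.v * (D.σ ^ m.val)⁻¹ := by
      rw [← ha, D.εF_add, show Fin.ofNat 7 m.val = m from Fin.ofNat_val_eq_self m, hm, add_sub_cancel]
    have e2 : D.εF (k + d) = D.σ ^ m.val * (D.v * D.w) * (D.σ ^ m.val)⁻¹ := by
      rw [← hb, D.εF_add, show Fin.ofNat 7 m.val = m from Fin.ofNat_val_eq_self m, hm, hd]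
      congr 1; abel
    rw [e1, e2, ← p1]; group
  have iter : ∀ n : ℕ, ∃ h ∈ D.H, h * D.t * h⁻¹ = D.εF (Fin.ofNat 7 n * d) := by
    intro n; induction n with
    | zero => exact ⟨1, one_mem _, by simp [D.εF_zero]⟩
    | succ n ih =>
      obtain ⟨h, hh, he⟩ := ih
      obtain ⟨g, hg, hge⟩ := step (Fin.ofNat 7 n * d)
      refine ⟨g * h, mul_mem hg hh, ?_⟩
      rw [show g * h * D.t * (g * h)⁻¹ = g * (h * D.t * h⁻¹) * g⁻¹ by group, he, hge]
      have e3 : ∀ q : Fin 7, (Fin.ofNat 7 (n + 1)) * q = Fin.ofNat 7 n * q + q := fun q => by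
        have e4 : Fin.ofNat 7 (n + 1) = Fin.ofNat 7 n + 1 := by
          apply Fin.ext; simp [Fin.val_add, Fin.ofNat, Nat.add_mod]
        rw [e4]
        exact (show ∀ x q : Fin 7, (x + 1) * q = x * q + q by decide +kernel) _ q
      rw [e3]
  obtain ⟨q, hq⟩ := (show ∀ d i : Fin 7, d = 0 ∨ ∃ q : Fin 7, q * d = i by decide +kernel) d i |>.resolve_left hd0
  obtain ⟨h, hh, he⟩ := iter q.val
  exact ⟨h, hh, by rw [he, show Fin.ofNat 7 q.val = q from Fin.ofNat_val_eq_self q, hq]⟩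

theorem Δ_conj_H {x : G} (hx : x ∈ D.Δ) : ∃ h ∈ D.H, x = h * D.t * h⁻¹ := by
  induction hx with
  | refl => exact ⟨1, one_mem _, by simp⟩
  | tail _ hbc ih =>
    obtain ⟨h, hh, rfl⟩ := ih
    rename_i y _
    obtain ⟨w', hw', a, ha, ha1, he⟩ := D.mem_W_split (x := h⁻¹ * y * h) (by simpa using D.conj_X hbc.2.1 h⁻¹) (by
      calc h⁻¹ * y * h * D.t = h⁻¹ * (y * (h * D.t * h⁻¹)) * h := by group
      _ = D.t * (h⁻¹ * y * h) := by rw [← hbc.2.2]; group)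
    obtain ⟨i, rfl⟩ := D.εF_surj ha ha1
    obtain ⟨g, hg, hge⟩ := D.H_conj_ε i
    refine ⟨h * w' * g, mul_mem (mul_mem hh (D.W_le_H hw')) hg, ?_⟩
    calc y = h * (h⁻¹ * y * h) * h⁻¹ := by group
    _ = h * w' * g * D.t * (h * w' * g)⁻¹ := by rw [he, ← hge]; group

theorem M_split {m : G} (hm : m ∈ D.M) : ∃ η ∈ D.H, ∃ c ∈ D.C, m = η * c := by
  obtain ⟨h, hh, he⟩ := D.Δ_conj_H (D.M_conj hm D.t_mem_Δ)
  obtain ⟨w', hw', d, hd, hs⟩ := D.cent_t_W_C (c := h⁻¹ * m) (by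
    calc h⁻¹ * m * D.t = h⁻¹ * (m * D.t * m⁻¹) * m := by group
    _ = D.t * (h⁻¹ * m) := by rw [he]; group)
  exact ⟨h * w', mul_mem hh (D.W_le_H hw'), d, hd, by rw [mul_assoc, ← hs, mul_inv_cancel_left]⟩

theorem decomp_unique {η η' c c' : G} (hη : η ∈ D.H) (hη' : η' ∈ D.H) (hc : c ∈ D.C) (hc' : c' ∈ D.C)
    (h : η * c = η' * c') : η = η' ∧ c = c' := by
  have h1 : η'⁻¹ * η = c' * c⁻¹ := by
    calc η'⁻¹ * η = η'⁻¹ * (η * c) * c⁻¹ := by group
    _ = c' * c⁻¹ := by rw [h]; group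
  have h2 := D.H_inf_C (mul_mem (inv_mem hη') hη) (h1 ▸ mul_mem hc' (inv_mem hc))
  have h3 := (inv_mul_eq_one.mp h2).symm
  exact ⟨h3, mul_left_cancel (h3 ▸ h)⟩

theorem C_le_M : D.C ≤ D.M := fun _ hc => D.cent_le_M (D.C_comm hc D.t_mem_Δ)

theorem W_inv_X {u : G} (hu : u ∈ D.W) (h2 : u * u = 1) (h1 : u ≠ 1) : u ∈ D.X := by
  obtain ⟨k, rfl⟩ := hu
  have hk : k * k = 1 := D.inj (by rw [map_mul, map_one, h2])
  obtain ⟨g, hg⟩ := (inv_conj k).resolve_left (fun h => h hk)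
  have hne : D.φ (g * k * g⁻¹) ≠ 1 := fun e => h1 (by
    rw [map_mul, map_mul, map_inv] at e
    calc D.φ k = (D.φ g)⁻¹ * (D.φ g * D.φ k * (D.φ g)⁻¹) * D.φ g := by group
    _ = 1 := by rw [e]; group)
  have := D.conj_X (D.E_sub_X (D.mem_E.mpr ⟨_, hg, rfl⟩) hne) (D.φ g)⁻¹
  simpa [mul_assoc] using this

theorem mul_mem_X {a b : G} (ha : a ∈ D.X) (hb : b ∈ D.X) (hc : a * b = b * a) (hne : a ≠ b) : a * b ∈ D.X := by
  have hab : a * b ≠ 1 := fun e => hne (by rw [eq_inv_of_mul_eq_one_left e, D.X_inv hb])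
  have h2 : a * b * (a * b) = 1 := by
    rw [mul_assoc, ← mul_assoc b, ← hc, mul_assoc a b, D.X_sq hb, mul_one, D.X_sq ha]
  obtain ⟨g, rfl⟩ := ha
  have hu : g⁻¹ * b * g ∈ D.W := D.mem_W (by simpa using D.conj_X hb g⁻¹) (by
    calc g⁻¹ * b * g * D.t = g⁻¹ * (b * (g * D.t * g⁻¹)) * g := by group
    _ = D.t * (g⁻¹ * b * g) := by rw [← hc]; group)
  have h := D.W_inv_X (u := g⁻¹ * (g * D.t * g⁻¹ * b) * g)
    (by rw [show g⁻¹ * (g * D.t * g⁻¹ * b) * g = D.t * (g⁻¹ * b * g) by group]; exact mul_mem D.t_mem_W hu)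
    (by calc g⁻¹ * (g * D.t * g⁻¹ * b) * g * (g⁻¹ * (g * D.t * g⁻¹ * b) * g)
          = g⁻¹ * ((g * D.t * g⁻¹ * b) * (g * D.t * g⁻¹ * b)) * g := by group
        _ = 1 := by rw [h2]; group)
    (fun e => hab (by
      calc g * D.t * g⁻¹ * b = g * (g⁻¹ * (g * D.t * g⁻¹ * b) * g) * g⁻¹ := by group
      _ = 1 := by rw [e]; group))
  have := D.conj_X h g
  rwa [show g * (g⁻¹ * (g * D.t * g⁻¹ * b) * g) * g⁻¹ = g * D.t * g⁻¹ * b by group] at this

theorem conj_pow_dihedral {a b : G} (ha : a * a = 1) (hb : b * b = 1) (n : ℕ) :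
    a * (a * b) ^ n = ((a * b) ^ n)⁻¹ * a := by
  have hai : a⁻¹ = a := inv_eq_of_mul_eq_one_right ha
  have hbi : b⁻¹ = b := inv_eq_of_mul_eq_one_right hb
  induction n with
  | zero => simp
  | succ n ih =>
    calc a * (a * b) ^ (n + 1) = a * (a * b) ^ n * (a * b) := by rw [pow_succ]; group
    _ = ((a * b) ^ n)⁻¹ * (a * (a * b)) := by rw [ih]; group
    _ = ((a * b) ^ n)⁻¹ * ((a * b)⁻¹ * a) := by
      rw [show a * (a * b) = (a * b)⁻¹ * a by rw [← mul_assoc, ha, one_mul, mul_inv_rev, inv_mul_cancel_right, hbi]]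
    _ = ((a * b) ^ (n + 1))⁻¹ * a := by rw [pow_succ' (a * b), mul_inv_rev ((a * b)) ((a * b) ^ n), mul_assoc]

theorem even_meet {a b : G} (ha : a ∈ D.X) (hb : b ∈ D.X) (h : ¬ Odd (orderOf (a * b))) :
    ∃ i : ℕ, (a * b) ^ i ∈ D.X ∧ (a * b) ^ i * a = a * (a * b) ^ i ∧ (a * b) ^ i * b = b * (a * b) ^ i := by
  rw [Nat.not_odd_iff_even] at h
  obtain ⟨k, hk⟩ := h
  have hpos := orderOf_pos (a * b)
  set z := (a * b) ^ k with hz
  have hz2 : z * z = 1 := by rw [hz, ← pow_add, ← hk, pow_orderOf_eq_one]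
  have hz1 : z ≠ 1 := fun e => by
    have := Nat.le_of_dvd (by omega) (orderOf_dvd_of_pow_eq_one e); omega
  have hzi : z⁻¹ = z := inv_eq_of_mul_eq_one_right hz2
  have hza : z * a = a * z := by rw [hz, conj_pow_dihedral (D.X_sq ha) (D.X_sq hb), ← hz, hzi]
  have hzb : z * b = b * z := by
    have hc : Commute z (a * b) := (Commute.pow_self (a * b) k)
    calc z * b = z * (a * (a * b)) := by rw [← mul_assoc a, D.X_sq ha, one_mul]
    _ = a * (z * (a * b)) := by rw [← mul_assoc, hza, mul_assoc]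
    _ = b * z := by rw [hc.eq, ← mul_assoc, ← mul_assoc, D.X_sq ha, one_mul]
  have hazX : a * z ∈ D.X := by
    obtain ⟨j, hj | hj⟩ := Nat.even_or_odd' k
    · have : a * z = ((a * b) ^ j)⁻¹ * a * ((a * b) ^ j)⁻¹⁻¹ := by
        rw [hz, hj, inv_inv, ← conj_pow_dihedral (D.X_sq ha) (D.X_sq hb), mul_assoc, ← pow_add, two_mul]
      rw [this]; exact D.conj_X ha _
    · have : a * z = ((a * b) ^ j)⁻¹ * b * ((a * b) ^ j)⁻¹⁻¹ := by
        calc a * z = a * (a * b) ^ j * ((a * b) * (a * b) ^ j) := by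
              rw [hz, hj, mul_assoc a, ← pow_succ', ← pow_add]; congr 2; omega
        _ = ((a * b) ^ j)⁻¹ * a * ((a * b) * (a * b) ^ j) := by
              rw [conj_pow_dihedral (D.X_sq ha) (D.X_sq hb)]
        _ = ((a * b) ^ j)⁻¹ * ((a * a) * b) * (a * b) ^ j := by simp only [mul_assoc]
        _ = _ := by rw [D.X_sq ha, one_mul, inv_inv]
      rw [this]; exact D.conj_X hb _
  refine ⟨k, ?_, hza, hzb⟩
  have hcomm : a * (a * z) = (a * z) * a := by rw [mul_assoc a z, hza]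
  have hne : a ≠ a * z := fun e => hz1 (left_eq_mul.mp e)
  have := D.mul_mem_X ha hazX hcomm hne
  rwa [← mul_assoc, D.X_sq ha, one_mul] at this

theorem cross_odd {y y' : G} (hy : y ∈ D.Δ) (hy' : y' ∈ D.X) (hn : y' ∉ D.Δ) : Odd (orderOf (y' * y)) := by
  by_contra h
  obtain ⟨i, hX, ha, hb⟩ := D.even_meet hy' (D.Δ_sub hy) h
  exact hn (D.Δ_adj (D.Δ_adj hy hX hb.symm) hy' ha)

theorem coset_odd {a b : G} (ha : a ∈ D.X) (hb : b ∈ D.X) (hn : a ∉ D.M) (hm : a * b ∈ D.M) :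
    Odd (orderOf (a * b)) := by
  by_contra h
  obtain ⟨i, hX, hza, -⟩ := D.even_meet ha hb h
  have hzΔ := D.X_inter_M hX (pow_mem hm i)
  obtain ⟨m, hm', hmt⟩ := D.exists_conj_Δ (D.Δ_adj hzΔ ha hza)
  exact hn (hmt ▸ mul_mem (mul_mem hm' (D.cent_le_M rfl)) (inv_mem hm'))

theorem exists_conj_odd {a b : G} (ha : a ∈ D.X) (hb : b ∈ D.X) (h : Odd (orderOf (a * b))) :
    ∃ i : ℕ, a = (a * b) ^ i * b * ((a * b) ^ i)⁻¹ := by
  obtain ⟨k, hk⟩ := h
  refine ⟨k + 1, ?_⟩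
  have ho : (a * b) ^ (2 * k + 1) = 1 := hk ▸ pow_orderOf_eq_one _
  have hb' : b = a * (a * b) := by rw [← mul_assoc, D.X_sq ha, one_mul]
  have hflip : a * ((a * b) ^ (k + 1))⁻¹ = (a * b) ^ (k + 1) * a := by
    have := congrArg (fun q => (a * b) ^ (k + 1) * q * ((a * b) ^ (k + 1))⁻¹)
      (conj_pow_dihedral (D.X_sq ha) (D.X_sq hb) (k + 1))
    simpa [mul_assoc] using this.symm
  have hpp : (a * b) ^ (k + 1) * (a * b) ^ (k + 1) = a * b := by
    rw [← pow_add, show k + 1 + (k + 1) = 2 * k + 1 + 1 by omega, pow_succ, ho, one_mul]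
  calc a = a * ((a * b) ^ (k + 1))⁻¹ * ((a * b) ^ (k + 1) * (a * b) ^ (k + 1)) * ((a * b) ^ (k + 1))⁻¹ := by group
  _ = (a * b) ^ (k + 1) * a * (a * b) * ((a * b) ^ (k + 1))⁻¹ := by rw [hflip, hpp]
  _ = (a * b) ^ (k + 1) * (a * (a * b)) * ((a * b) ^ (k + 1))⁻¹ := by simp only [mul_assoc]
  _ = (a * b) ^ (k + 1) * b * ((a * b) ^ (k + 1))⁻¹ := by rw [← hb']

theorem no_mixed {η c y' : G} (hη : η ∈ D.Δ) (hc : c ∈ D.C) (hy' : y' ∈ D.X) (hn : y' ∉ D.Δ)
    (hcomm : y' * (η * c) = η * c * y') : False := by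
  haveI : Fact (Nat.Prime 2) := ⟨Nat.prime_two⟩
  set z := η * c with hz
  set L := centralizer ({z} : Set G) with hL
  have hηc : η * c = c * η := (D.C_comm hc hη).symm
  have hηz : η * z = z * η := by
    rw [hz, ← mul_assoc]
    calc η * η * c = η * (η * c) := mul_assoc _ _ _
    _ = η * c * η := by rw [mul_assoc η c η, ← hηc]
  have hηL : η ∈ L := mem_centralizer_singleton_iff.mpr hηz
  have hy'L : y' ∈ L := mem_centralizer_singleton_iff.mpr hcomm
  obtain ⟨i, hu⟩ := D.exists_conj_odd hy' (D.Δ_sub hη) (D.cross_odd hη hy' hn)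
  set uu := (y' * η) ^ i with huu
  have huL : uu ∈ L := pow_mem (mul_mem hy'L hηL) i
  set ηL : L := ⟨η, hηL⟩
  have hord : orderOf ηL = 2 := by
    rw [← Subgroup.orderOf_coe]
    exact orderOf_eq_prime (by rw [pow_two]; exact D.X_sq (D.Δ_sub hη)) (D.X_ne (D.Δ_sub hη))
  have hηH := D.Δ_le_H hη
  have hiso : Cfsg.IsIsolated ηL := by
    intro g hg
    refine Subtype.ext ?_
    show (g : G) * η * (g : G)⁻¹ = η
    have hg' : η * ((g : G) * η * (g : G)⁻¹) = (g : G) * η * (g : G)⁻¹ * η := congrArg Subtype.val hg.eq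
    have hη1 := D.Δ_adj hη (D.conj_X (D.Δ_sub hη) g) hg'
    have hgM : (g : G) ∈ D.M := by
      obtain ⟨m, hm, hmt⟩ := D.exists_conj_Δ hη
      have : (g : G) * m ∈ D.M := D.mem_M_of (by
        rwa [show (g : G) * m * D.t * ((g : G) * m)⁻¹ = g * (m * D.t * m⁻¹) * (g : G)⁻¹ by group, ← hmt])
      exact (mul_mem_cancel_right hm).mp this
    have hgz : (g : G) * (η * c) = η * c * g := mem_centralizer_singleton_iff.mp g.2
    refine (D.decomp_unique (D.Δ_le_H hη1) hηH (D.M_conj_C hgM hc) hc ?_).1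
    calc (g : G) * η * (g : G)⁻¹ * (g * c * (g : G)⁻¹) = g * (η * c) * (g : G)⁻¹ := by group
    _ = η * c := by rw [hgz, mul_inv_cancel_right]
  have hO := ZStar.inZStar_of_isolated hord hiso ⟨uu, huL⟩
  set O : Subgroup G := (Cfsg.pPrimeCore 2 L).map L.subtype
  have hodd : Odd (Nat.card O) := by
    rw [← Nat.not_even_iff_odd, even_iff_two_dvd,
      ← Nat.card_congr (equivMapOfInjective _ L.subtype L.subtype_injective).toEquiv]
    exact Constrained.pPrimeCore_not_dvd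
  have hmemO : y' * η⁻¹ ∈ O := ⟨_, hO, by
    show uu * η * uu⁻¹ * η⁻¹ = y' * η⁻¹
    rw [← hu]⟩
  have hOn : ∀ g ∈ L, ∀ x ∈ O, g * x * g⁻¹ ∈ O := by
    rintro g hg _ ⟨x, hx, rfl⟩
    exact ⟨⟨g, hg⟩ * x * ⟨g, hg⟩⁻¹, (inferInstance : (Cfsg.pPrimeCore 2 L).Normal).conj_mem x hx _, rfl⟩
  obtain ⟨h, hh, hhe⟩ := D.Δ_conj_H hη
  set A := D.E.map (MulAut.conj h).toMonoidHom with hA
  have hAz : A ≤ L := by
    rintro _ ⟨e, he, rfl⟩
    refine mem_centralizer_singleton_iff.mpr ?_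
    show h * e * h⁻¹ * z = z * (h * e * h⁻¹)
    have c1 : h * e * h⁻¹ * c = c * (h * e * h⁻¹) :=
      D.H_comm_C (mul_mem (mul_mem hh (D.E_le_H he)) (inv_mem hh)) hc
    have c2 : h * e * h⁻¹ * η = η * (h * e * h⁻¹) := by
      rw [hhe]
      calc h * e * h⁻¹ * (h * D.t * h⁻¹) = h * (e * D.t) * h⁻¹ := by group
      _ = _ := by rw [D.E_comm he D.t_mem]; group
    exact (show Commute (h * e * h⁻¹) η from c2).mul_right c1
  have hAc : IsMulCommutative A := ⟨⟨fun ⟨a, ha⟩ ⟨b, hb⟩ => by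
    obtain ⟨a', ha', rfl⟩ := ha
    obtain ⟨b', hb', rfl⟩ := hb
    apply Subtype.ext
    show h * a' * h⁻¹ * (h * b' * h⁻¹) = h * b' * h⁻¹ * (h * a' * h⁻¹)
    rw [show h * a' * h⁻¹ * (h * b' * h⁻¹) = h * (a' * b') * h⁻¹ by group, D.E_comm ha' hb']; group⟩⟩
  have hAsq : ∀ a ∈ A, a * a = 1 := by
    rintro _ ⟨e, he, rfl⟩
    rw [← map_mul, D.E_sq he, map_one]
  have hcardA : Nat.card A = 8 :=
    (Nat.card_congr (equivMapOfInjective D.E _ (MulAut.conj h).injective).toEquiv).symm.trans D.card_E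
  have hnc : ¬ IsCyclic A := fun hcy => by
    obtain ⟨g, hg⟩ := hcy.exists_ofOrder_eq_natCard
    rw [hcardA] at hg
    have := orderOf_dvd_of_pow_eq_one (show g ^ 2 = 1 from Subtype.ext (by
      rw [SubmonoidClass.coe_pow, pow_two]; exact hAsq g g.2))
    rw [hg] at this; norm_num at this
  have hAO : A ≤ normalizer (O : Set G) := fun a ha => by
    refine mem_normalizer_iff.mpr fun x => ⟨hOn a (hAz ha) x, fun hx => ?_⟩
    have := hOn a⁻¹ (inv_mem (hAz ha)) _ hx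
    rwa [show a⁻¹ * (a * x * a⁻¹) * a⁻¹⁻¹ = x by group] at this
  have hcop : (Nat.card A).Coprime (Nat.card O) := by
    rw [hcardA, show (8 : ℕ) = 2 ^ 3 by norm_num]
    exact Nat.Coprime.pow_left 3 (Nat.coprime_two_left.mpr hodd)
  have hcent : O ≤ centralizer ({η} : Set G) := by
    refine Coprime.le_of_centralizers hAc hnc hAO hcop fun a ha ha1 => ?_
    obtain ⟨e, he, rfl⟩ := ha
    have he1 : e ≠ 1 := fun e0 => ha1 (by rw [e0, map_one])
    obtain ⟨j, rfl⟩ := D.εF_surj he he1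
    set k := h * D.σ ^ j.val with hk
    rintro n ⟨hnO, hna⟩
    have hna' : n * (k * D.t * k⁻¹) = k * D.t * k⁻¹ * n := by
      have e1 : (MulAut.conj h).toMonoidHom (D.εF j) = k * D.t * k⁻¹ := by
        show h * (D.σ ^ j.val * D.t * (D.σ ^ j.val)⁻¹) * h⁻¹ = _
        rw [hk]; group
      rw [← e1]
      exact mem_centralizer_singleton_iff.mp hna
    set n' := k⁻¹ * n * k with hn'
    obtain ⟨w', ⟨l, rfl⟩, d, hd, hnd⟩ := D.cent_t_W_C (c := n') (by
      calc n' * D.t = k⁻¹ * (n * (k * D.t * k⁻¹)) * k := by rw [hn']; group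
      _ = D.t * n' := by rw [hna', hn']; group)
    have hld : ∀ l : Cen, Commute (D.φ l) d := fun l => (D.K_comm (D.C_le_K hd) ⟨l, rfl⟩).symm
    have h15 : ∀ (q : Cen) (r : G), r ∈ D.C → k * (D.φ q * r) * k⁻¹ ∈ O → q ^ 15 = 1 := by
      intro q r hr hmem
      have h1 : orderOf (D.φ q * r) ∣ Nat.card O := by
        rw [← MulEquiv.orderOf_eq (MulAut.conj k) (D.φ q * r)]
        exact Subgroup.orderOf_dvd_natCard O hmem
      set o := orderOf (D.φ q * r) with ho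
      have h2 : D.φ q ^ o * r ^ o = 1 := by
        rw [← (show Commute (D.φ q) r from (D.K_comm (D.C_le_K hr) ⟨q, rfl⟩).symm).mul_pow, ho, pow_orderOf_eq_one]
      have h3 : D.φ (q ^ o) = 1 := D.W_inf_C ⟨_, rfl⟩ (by
        rw [map_pow, eq_inv_of_mul_eq_one_left h2]; exact inv_mem (pow_mem hr _))
      have h4 : q ^ o = 1 := D.inj (by rw [h3, map_one])
      have hg : orderOf q ∣ Nat.gcd o 30 := Nat.dvd_gcd (orderOf_dvd_of_pow_eq_one h4) (orderOf_dvd_of_pow_eq_one (odd_exp q))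
      have hoo : Nat.Coprime o 2 := Nat.coprime_two_right.mpr (Odd.of_dvd_nat hodd h1)
      have : Nat.gcd o 30 ∣ 15 :=
        (Nat.Coprime.coprime_dvd_left (Nat.gcd_dvd_left o 30) hoo).dvd_of_dvd_mul_right
          (show Nat.gcd o 30 ∣ 15 * 2 from Nat.gcd_dvd_right o 30)
      exact orderOf_dvd_iff_pow_eq_one.mp (hg.trans this)
    have hkn : k * (D.φ l * d) * k⁻¹ = n := by rw [← hnd, hn']; group
    have hAk : ∀ e ∈ D.E, k * e * k⁻¹ ∈ A := fun e he =>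
      ⟨D.σ ^ j.val * e * (D.σ ^ j.val)⁻¹, D.σpow_E _ he, by
        show h * (D.σ ^ j.val * e * (D.σ ^ j.val)⁻¹) * h⁻¹ = _
        rw [hk]; group⟩
    have hq : ∀ a : Cen, a * a = 1 → a * vK = vK * a → k * (D.φ (a * l⁻¹ * a) * d⁻¹) * k⁻¹ ∈ O := by
      intro a ha hav
      have h1 := hOn _ (hAz (hAk _ (D.mem_E.mpr ⟨a, hav, rfl⟩))) _ (inv_mem hnO)
      have e2 : k * D.φ a * k⁻¹ * n⁻¹ * (k * D.φ a * k⁻¹)⁻¹ = k * (D.φ (a * l⁻¹ * a) * d⁻¹) * k⁻¹ := by
        have hai : (D.φ a)⁻¹ = D.φ a := inv_eq_of_mul_eq_one_right (by rw [← map_mul, ha, map_one])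
        have c1 : Commute d⁻¹ (D.φ (l⁻¹ * a)) := (hld _).symm.inv_left
        calc k * D.φ a * k⁻¹ * n⁻¹ * (k * D.φ a * k⁻¹)⁻¹
            = k * D.φ a * (d⁻¹ * ((D.φ l)⁻¹ * (D.φ a)⁻¹)) * k⁻¹ := by rw [← hkn]; group
        _ = k * (D.φ (a * l⁻¹ * a) * d⁻¹) * k⁻¹ := by
            rw [hai, ← map_inv, ← map_mul D.φ l⁻¹, c1.eq, map_mul D.φ (a * l⁻¹) a, map_mul D.φ a l⁻¹,
              map_mul D.φ l⁻¹ a]
            group
      rwa [e2] at h1
    have hw' : wK * vK = vK * wK := v_elems.1.symm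
    have hvw : vK * wK * vK = vK * (vK * wK) := by rw [mul_assoc, hw']
    have hprod : ∀ a b : Cen, a * a = 1 → a * vK = vK * a → b * b = 1 → b * vK = vK * b →
        (l * (a * l⁻¹ * a) * l * (b * l⁻¹ * b)) ^ 15 = 1 := by
      intro a b ha hav hb hbv
      refine h15 _ 1 (one_mem _) ?_
      have := mul_mem (mul_mem (mul_mem (show k * (D.φ l * d) * k⁻¹ ∈ O from hkn ▸ hnO) (hq a ha hav))
        (show k * (D.φ l * d) * k⁻¹ ∈ O from hkn ▸ hnO)) (hq b hb hbv)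
      have e3 : k * (D.φ l * d) * k⁻¹ * (k * (D.φ (a * l⁻¹ * a) * d⁻¹) * k⁻¹) * (k * (D.φ l * d) * k⁻¹) *
          (k * (D.φ (b * l⁻¹ * b) * d⁻¹) * k⁻¹) =
          k * (D.φ (l * (a * l⁻¹ * a) * l * (b * l⁻¹ * b)) * 1) * k⁻¹ := by
        rw [mul_one]
        have key : ∀ p q : G, Commute q d → p * d * (q * d⁻¹) = p * q := fun p q h => by
          rw [mul_assoc p, ← mul_assoc d, ← h.eq, mul_inv_cancel_right]
        calc k * (D.φ l * d) * k⁻¹ * (k * (D.φ (a * l⁻¹ * a) * d⁻¹) * k⁻¹) * (k * (D.φ l * d) * k⁻¹) *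
              (k * (D.φ (b * l⁻¹ * b) * d⁻¹) * k⁻¹)
            = k * ((D.φ l * d * (D.φ (a * l⁻¹ * a) * d⁻¹)) * (D.φ l * d * (D.φ (b * l⁻¹ * b) * d⁻¹))) * k⁻¹ := by
              group
        _ = k * D.φ (l * (a * l⁻¹ * a) * l * (b * l⁻¹ * b)) * k⁻¹ := by
              rw [key _ _ (hld _), key _ _ (hld _)]; simp only [map_mul, mul_assoc]
      rwa [e3] at this
    have hl : l = 1 := (odd_invariant l).resolve_left (fun h => h
      ⟨h15 l d hd (hkn ▸ hnO), hprod _ _ v_elems.2.2.1 hw' vw_sq hvw,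
        hprod _ _ vK_facts.1 rfl v_elems.2.2.1 hw', hprod _ _ vK_facts.1 rfl vw_sq hvw⟩)
    have hkM : k ∈ D.M := mul_mem (D.H_le_M hh) (pow_mem D.σ_mem_M _)
    have hnC : n ∈ D.C := by
      rw [← hkn, hl, map_one, one_mul]; exact D.M_conj_C hkM hd
    exact mem_centralizer_singleton_iff.mpr (D.C_comm hnC hη)
  have h1 : uu * η * uu⁻¹ * η⁻¹ * η = η * (uu * η * uu⁻¹ * η⁻¹) :=
    mem_centralizer_singleton_iff.mp (hcent (by rw [← hu]; exact hmemO))
  rw [← hu] at h1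
  -- `y'` commutes with `η`
  have h2 : y' * η = η * y' := by
    calc y' * η = (y' * η⁻¹ * η) * η := by group
    _ = η * (y' * η⁻¹) * η := by rw [h1]
    _ = η * y' := by group
  exact hn (D.Δ_adj hη hy' h2.symm)

theorem H_two_elem {η : G} (hη : η ∈ D.H) (h8 : η ^ 8 = 1) : η * η = 1 ∧ (η ≠ 1 → η ∈ D.Δ) := by
  haveI : Fact (Nat.Prime 2) := ⟨Nat.prime_two⟩
  obtain ⟨T, -, hT⟩ := D.exists_sylow_H
  have hp : IsPGroup 2 (zpowers (⟨η, hη⟩ : D.H)) := by
    intro x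
    refine ⟨3, ?_⟩
    obtain ⟨n, hn⟩ := mem_zpowers_iff.mp x.2
    refine Subtype.ext (Subtype.ext ?_)
    simp only [SubmonoidClass.coe_pow, ← hn, SubgroupClass.coe_zpow, OneMemClass.coe_one]
    rw [← zpow_natCast, ← zpow_mul, mul_comm, zpow_mul, zpow_natCast, show (2 : ℕ) ^ 3 = 8 by norm_num, h8, one_zpow]
  obtain ⟨T', hT'⟩ := hp.exists_le_sylow
  obtain ⟨g, hg⟩ := MulAction.exists_smul_eq D.H T' T
  have h1 : g * ⟨η, hη⟩ * g⁻¹ ∈ ((g • T' : Sylow 2 D.H) : Subgroup D.H) := by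
    rw [Sylow.coe_subgroup_smul, mem_pointwise_smul_iff_inv_smul_mem]
    simpa [MulAut.smul_def, mul_assoc] using hT' (mem_zpowers _)
  rw [hg] at h1
  obtain ⟨e, he, hc⟩ := hT _ h1
  have hq : ((g * ⟨η, hη⟩ * g⁻¹ : D.H) : G) * e = 1 :=
    D.H_inf_C (mul_mem (g * ⟨η, hη⟩ * g⁻¹ : D.H).2 (D.E_le_H he)) hc
  have he2 : (g : G) * η * (g : G)⁻¹ = e := by
    have h := eq_inv_of_mul_eq_one_left hq
    rw [inv_eq_of_mul_eq_one_right (D.E_sq he)] at h
    simpa using h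
  refine ⟨?_, fun h1 => ?_⟩
  · calc η * η = (g : G)⁻¹ * ((g * η * (g : G)⁻¹) * (g * η * (g : G)⁻¹)) * g := by group
    _ = 1 := by rw [he2, D.E_sq he]; group
  · have hne : e ≠ 1 := fun e0 => h1 (by
      calc η = (g : G)⁻¹ * (g * η * (g : G)⁻¹) * g := by group
      _ = 1 := by rw [he2, e0]; group)
    have := D.M_conj (inv_mem (D.H_le_M g.2)) (D.E_sub_Δ he hne)
    rw [← he2] at this
    simpa [mul_assoc] using this

/-- `M ⊓ xMx` -/
def Dx (x : G) : Subgroup G := D.M ⊓ D.M.comap (MulAut.conj x).toMonoidHom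

/-- its projection to `H` -/
def P (x : G) : Subgroup D.H where
  carrier := {η | ∃ c ∈ D.C, (η : G) * c ∈ D.Dx x}
  one_mem' := ⟨1, one_mem _, by simp⟩
  mul_mem' := by
    rintro η η' ⟨c, hc, h⟩ ⟨c', hc', h'⟩
    refine ⟨c * c', mul_mem hc hc', ?_⟩
    have : ((η * η' : D.H) : G) * (c * c') = (η : G) * c * ((η' : G) * c') := by
      rw [Subgroup.coe_mul, mul_assoc (η : G) c, ← mul_assoc c, ← D.H_comm_C η'.2 hc]; group
    rw [this]; exact mul_mem h h'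
  inv_mem' := by
    rintro η ⟨c, hc, h⟩
    refine ⟨c⁻¹, inv_mem hc, ?_⟩
    have h' := inv_mem h
    rwa [mul_inv_rev, ← D.H_comm_C (inv_mem η.2) (inv_mem hc)] at h'

theorem odd_P {x : G} (hx : x ∈ D.X) (hxM : x ∉ D.M) : Odd (Nat.card (D.P x)) := by
  haveI : Fact (Nat.Prime 2) := ⟨Nat.prime_two⟩
  rw [← Nat.not_even_iff_odd, even_iff_two_dvd]
  intro h
  obtain ⟨η, hη⟩ := exists_prime_orderOf_dvd_card' 2 h
  obtain ⟨c, hc, hcD⟩ := η.2
  set η1 : G := ((η : D.H) : G) with hη1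
  have hord : orderOf η1 = 2 := by rw [hη1, Subgroup.orderOf_coe, Subgroup.orderOf_coe]; exact hη
  have hη12 : η1 * η1 = 1 := by rw [← pow_two, ← hord]; exact pow_orderOf_eq_one _
  have hη1ne : η1 ≠ 1 := fun e => by rw [e, orderOf_one] at hord; omega
  have hη1H : η1 ∈ D.H := (η : D.H).2
  have hη1Δ : η1 ∈ D.Δ := (D.H_two_elem hη1H (by
    rw [show 8 = 2 * 4 by norm_num, pow_mul, pow_two, hη12, one_pow])).2 hη1ne
  obtain ⟨hzM, hzx⟩ := mem_inf.mp hcD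
  have hzx' : x * (η1 * c) * x⁻¹ ∈ D.M := hzx
  obtain ⟨η', hη', c', hc', he⟩ := D.M_split hzx'
  have hm : Odd (21945 : ℕ) := by decide
  set z2 := (η1 * c) ^ 21945 with hz2
  have e1 : z2 = η1 * c ^ 21945 := by
    rw [hz2, (show Commute η1 c from D.H_comm_C hη1H hc).mul_pow,
      show (21945 : ℕ) = 2 * 10972 + 1 by norm_num, pow_succ, pow_mul, pow_two, hη12, one_pow, one_mul]
  have e2 : x * z2 * x⁻¹ = η' ^ 21945 * c' ^ 21945 := by
    rw [hz2, ← conj_pow, he, (show Commute η' c' from D.H_comm_C hη' hc').mul_pow]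
  have h8 : (η' ^ 21945) ^ 8 = 1 := by
    rw [← pow_mul, show 21945 * 8 = 175560 by norm_num, ← D.card_H]
    exact (SubmonoidClass.coe_pow (⟨η', hη'⟩ : D.H) _).symm.trans (congrArg Subtype.val (pow_card_eq_one' (x := (⟨η', hη'⟩ : D.H))))
  obtain ⟨h2a, h2b⟩ := D.H_two_elem (pow_mem hη' _) h8
  have hcC := pow_mem hc' 21945
  obtain ⟨y, hy, hyc⟩ : ∃ y ∈ D.Δ, y * (x * z2 * x⁻¹) = x * z2 * x⁻¹ * y := by
    rw [e2]
    rcases eq_or_ne (η' ^ 21945) 1 with h1 | h1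
    · exact ⟨D.t, D.t_mem_Δ, by rw [h1, one_mul, D.C_comm hcC D.t_mem_Δ]⟩
    · refine ⟨_, h2b h1, ?_⟩
      rw [mul_assoc, D.C_comm hcC (h2b h1)]
  have hy' : x⁻¹ * y * x⁻¹⁻¹ ∈ D.X := D.conj_X (D.Δ_sub hy) _
  have hn : x⁻¹ * y * x⁻¹⁻¹ ∉ D.Δ := by
    intro hmem
    obtain ⟨m, hm', rfl⟩ := D.exists_conj_Δ hy
    have h1 : x⁻¹ * m ∈ D.M := D.mem_M_of (by
      rwa [show x⁻¹ * m * D.t * (x⁻¹ * m)⁻¹ = x⁻¹ * (m * D.t * m⁻¹) * x⁻¹⁻¹ by group])
    exact hxM (by simpa using inv_mem ((mul_mem_cancel_right hm').mp h1))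
  refine D.no_mixed hη1Δ (pow_mem hc 21945) hy' hn ?_
  rw [← e1]
  calc x⁻¹ * y * x⁻¹⁻¹ * z2 = x⁻¹ * (y * (x * z2 * x⁻¹)) * x := by group
  _ = z2 * (x⁻¹ * y * x⁻¹⁻¹) := by rw [hyc]; group

theorem card_Δ : Nat.card D.Δ = 1463 := by
  set W' := D.W.subgroupOf D.H
  let f : D.H → D.Δ := fun h => ⟨(h : G) * D.t * (h : G)⁻¹, D.M_conj (D.H_le_M h.2) D.t_mem_Δ⟩
  have hf : ∀ a b : D.H, f a = f b ↔ a⁻¹ * b ∈ W' := by
    intro a b
    constructor
    · intro h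
      have h' : (a : G) * D.t * (a : G)⁻¹ = b * D.t * (b : G)⁻¹ := congrArg Subtype.val h
      obtain ⟨w', hw', d, hd, hs⟩ := D.cent_t_W_C (c := (a : G)⁻¹ * b) (by
        calc (a : G)⁻¹ * b * D.t = (a : G)⁻¹ * (b * D.t * (b : G)⁻¹) * b := by group
        _ = D.t * ((a : G)⁻¹ * b) := by rw [← h']; group)
      have hd1 : d = 1 := D.H_inf_C (by
        rw [show d = w'⁻¹ * ((a : G)⁻¹ * b) by rw [hs, inv_mul_cancel_left]]
        exact mul_mem (inv_mem (D.W_le_H hw')) (mul_mem (inv_mem a.2) b.2)) hd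
      show (a : G)⁻¹ * b ∈ D.W
      rw [hs, hd1, mul_one]; exact hw'
    · intro h
      refine Subtype.ext ?_
      show (a : G) * D.t * (a : G)⁻¹ = b * D.t * (b : G)⁻¹
      have h' := D.W_comm_t (show (a : G)⁻¹ * b ∈ D.W from h)
      calc (a : G) * D.t * (a : G)⁻¹ = a * (D.t * ((a : G)⁻¹ * b)) * (b : G)⁻¹ := by group
      _ = b * D.t * (b : G)⁻¹ := by rw [← h']; group
  let F : D.H ⧸ W' → D.Δ := Quotient.lift f fun a b h => (hf a b).mpr (QuotientGroup.leftRel_apply.mp h)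
  have hF : Function.Bijective F := by
    refine ⟨fun q r => ?_, fun ⟨y, hy⟩ => ?_⟩
    · obtain ⟨a, rfl⟩ := QuotientGroup.mk_surjective q
      obtain ⟨b, rfl⟩ := QuotientGroup.mk_surjective r
      exact fun h => QuotientGroup.eq.mpr ((hf a b).mp h)
    · obtain ⟨h, hh, rfl⟩ := D.Δ_conj_H hy
      exact ⟨QuotientGroup.mk ⟨h, hh⟩, rfl⟩
  have hW : Nat.card W' = 120 := by
    rw [Nat.card_congr (subgroupOfEquivOfLe D.W_le_H).toEquiv]
    refine (Nat.card_congr (MonoidHom.ofInjective D.inj).toEquiv).symm.trans ?_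
    rw [Nat.card_eq_fintype_card]
    exact CfsgLib.JankoOrder.card_Cen
  have h := Subgroup.card_mul_index W'
  rw [hW, D.card_H, Subgroup.index, Nat.card_congr (Equiv.ofBijective F hF)] at h
  omega

theorem Δ_eq_X {x : G} (hx : x ∈ D.X) : x ∈ D.Δ := by
  classical
  by_contra hxn
  letI := Fintype.ofFinite G
  letI : Fintype (G ⧸ D.M) := Fintype.ofFinite _
  have hxM : x ∉ D.M := fun h => hxn (D.X_inter_M hx h)
  -- `X` is the disjoint union of the translates of the component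
  let g : (G ⧸ D.M) × D.Δ → D.X := fun p =>
    ⟨p.1.out * p.2.1 * p.1.out⁻¹, D.conj_X (D.Δ_sub p.2.2) _⟩
  have hg : Function.Bijective g := by
    refine ⟨fun p q h => ?_, fun ⟨y, hy⟩ => ?_⟩
    · have h' : p.1.out * p.2.1 * p.1.out⁻¹ = q.1.out * q.2.1 * q.1.out⁻¹ := congrArg Subtype.val h
      obtain ⟨m, hm, hmt⟩ := D.exists_conj_Δ p.2.2
      have hM : q.1.out⁻¹ * p.1.out ∈ D.M := by
        refine (mul_mem_cancel_right hm).mp (D.mem_M_of ?_)
        rw [show q.1.out⁻¹ * p.1.out * m * D.t * (q.1.out⁻¹ * p.1.out * m)⁻¹ =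
          q.1.out⁻¹ * (p.1.out * (m * D.t * m⁻¹) * p.1.out⁻¹) * q.1.out by group, ← hmt, h',
          show q.1.out⁻¹ * (q.1.out * q.2.1 * q.1.out⁻¹) * q.1.out = q.2.1 by group]
        exact q.2.2
      have h1 : p.1 = q.1 := by
        rw [← QuotientGroup.out_eq' p.1, ← QuotientGroup.out_eq' q.1]
        exact (QuotientGroup.eq.mpr hM).symm
      refine Prod.ext h1 (Subtype.ext ?_)
      rw [h1] at h'
      exact mul_left_cancel (mul_right_cancel h')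
    · obtain ⟨k, rfl⟩ := hy
      set q : G ⧸ D.M := QuotientGroup.mk k
      have hM : q.out⁻¹ * k ∈ D.M := QuotientGroup.eq.mp (QuotientGroup.out_eq' q)
      exact ⟨(q, ⟨_, D.M_conj hM D.t_mem_Δ⟩), Subtype.ext (by
        show q.out * (q.out⁻¹ * k * D.t * (q.out⁻¹ * k)⁻¹) * q.out⁻¹ = _
        group)⟩
  have hcardX : Fintype.card D.X = Fintype.card (G ⧸ D.M) * 1463 := by
    rw [← Fintype.card_congr (Equiv.ofBijective g hg), Fintype.card_prod, ← Nat.card_eq_fintype_card (α := D.Δ),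
      D.card_Δ]
  set q0 : G ⧸ D.M := QuotientGroup.mk 1
  have hne : ∃ q : G ⧸ D.M, q ≠ q0 ∧ 1463 ≤ (Finset.univ.filter fun y : D.X => (QuotientGroup.mk (y : G) : G ⧸ D.M) = q).card := by
    by_contra hcon
    push Not at hcon
    have hsum := Finset.card_eq_sum_card_fiberwise (f := fun y : D.X => (QuotientGroup.mk (y : G) : G ⧸ D.M))
      (s := Finset.univ) (t := Finset.univ) (fun _ _ => Finset.mem_coe.mpr (Finset.mem_univ _))
    rw [Finset.card_univ, hcardX] at hsum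
    have hb : (Finset.univ.filter fun y : D.X => (QuotientGroup.mk (y : G) : G ⧸ D.M) = q0).card ≤ 1463 := by
      rw [← D.card_Δ, ← Fintype.card_subtype, ← Nat.card_eq_fintype_card]
      refine Nat.card_le_card_of_injective (fun y => (⟨y.1.1, D.X_inter_M y.1.2 ?_⟩ : D.Δ)) ?_
      · simpa using QuotientGroup.eq.mp y.2.symm
      · intro a b h
        exact Subtype.ext (Subtype.ext (congrArg (fun z : D.Δ => (z : G)) h))
    have hqx : (QuotientGroup.mk x : G ⧸ D.M) ≠ q0 := fun e => hxM (by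
      simpa using QuotientGroup.eq.mp e.symm)
    have hlt : ∑ q : G ⧸ D.M, (Finset.univ.filter fun y : D.X => (QuotientGroup.mk (y : G) : G ⧸ D.M) = q).card <
        ∑ _q : G ⧸ D.M, 1463 := by
      refine Finset.sum_lt_sum (fun q _ => ?_) ⟨_, Finset.mem_univ _, hcon _ hqx⟩
      rcases eq_or_ne q q0 with rfl | hq
      · exact hb
      · exact (hcon q hq).le
    rw [Finset.sum_const, Finset.card_univ, smul_eq_mul] at hlt
    omega
  obtain ⟨q, hq, hbig⟩ := hne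
  obtain ⟨⟨x0, hx0⟩, hx0q⟩ := Finset.card_pos.mp (lt_of_lt_of_le (by norm_num) hbig)
  rw [Finset.mem_filter] at hx0q
  have hx0M : x0 ∉ D.M := fun h => hq (by
    rw [← hx0q.2]; exact (QuotientGroup.eq.mpr (by simpa using h)).symm)
  -- the inverted elements
  let I : Finset D.X := Finset.univ.filter fun y : D.X => (QuotientGroup.mk (y : G) : G ⧸ D.M) = q
  have hmM : ∀ y : I, x0 * (y : D.X).1 ∈ D.M := fun y => by
    have h := (Finset.mem_filter.mp y.2).2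
    have := QuotientGroup.eq.mp (hx0q.2.trans h.symm)
    rwa [D.X_inv hx0] at this
  have hDx : ∀ y : I, x0 * (y : D.X).1 ∈ D.Dx x0 := fun y => by
    refine mem_inf.mpr ⟨hmM y, ?_⟩
    show x0 * (x0 * (y : D.X).1) * x0⁻¹ ∈ D.M
    rw [← mul_assoc, D.X_sq hx0, one_mul, ← inv_inv ((y : D.X).1), ← mul_inv_rev, D.X_inv (y : D.X).2]
    exact inv_mem (hmM y)
  choose η hη c hc he using fun y : I => D.M_split (hmM y)
  let π : I → D.P x0 := fun y => ⟨⟨η y, hη y⟩, c y, hc y, by show η y * c y ∈ _; rw [← he y]; exact hDx y⟩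
  have hπ : Function.Injective π := by
    intro y y' h
    have hee : η y = η y' := congrArg (fun z : D.P x0 => ((z : D.H) : G)) h
    set a := (y : D.X).1
    set b := (y' : D.X).1
    have hai := D.X_inv (y : D.X).2
    have hab : a * b = (c y)⁻¹ * c y' := by
      calc a * b = a⁻¹ * b := by rw [hai]
      _ = (x0 * a)⁻¹ * (x0 * b) := by group
      _ = (c y)⁻¹ * c y' := by rw [he y, he y', hee]; group
    set d := a * b with hd
    have hdC : d ∈ D.C := hab ▸ mul_mem (inv_mem (hc y)) (hc y')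
    have haM : a ∉ D.M := fun h' => hx0M ((mul_mem_cancel_right h').mp (hmM y))
    have hodd := D.coset_odd (y : D.X).2 (y' : D.X).2 haM (D.C_le_M hdC)
    have haΔ : a ∉ D.Δ := fun h' => haM (by
      obtain ⟨m, hm, hmt⟩ := D.exists_conj_Δ h'
      exact hmt ▸ mul_mem (mul_mem hm (D.cent_le_M rfl)) (inv_mem hm))
    obtain ⟨i, hi⟩ := D.exists_conj_odd (y : D.X).2 D.t_mem_X (D.cross_odd D.t_mem_Δ (y : D.X).2 haΔ)
    have hflip : a * d * a⁻¹ = d⁻¹ := by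
      rw [hd, hai, ← mul_assoc a a b, D.X_sq (y : D.X).2, one_mul, mul_inv_rev, D.X_inv (y' : D.X).2, hai]
    have htd : D.t * d = d * D.t := (D.C_comm hdC D.t_mem_Δ).symm
    -- conjugation by a power of `a t` maps `d` to `d` or its inverse
    have hpow : ∀ j : ℕ, ((a * D.t) ^ j) * d * ((a * D.t) ^ j)⁻¹ = d ∨ ((a * D.t) ^ j) * d * ((a * D.t) ^ j)⁻¹ = d⁻¹ := by
      intro j; induction j with
      | zero => left; simp
      | succ j ih =>
        have e1 : (a * D.t) ^ (j + 1) * d * ((a * D.t) ^ (j + 1))⁻¹ =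
            a * (D.t * ((a * D.t) ^ j * d * ((a * D.t) ^ j)⁻¹) * D.t⁻¹) * a⁻¹ := by
          simp only [pow_succ' (a * D.t), mul_inv_rev, mul_assoc]
        rw [e1]
        have e2 : D.t * d * D.t⁻¹ = d := by rw [htd, mul_inv_cancel_right]
        rcases ih with h1 | h1 <;> rw [h1]
        · right; rw [e2, hflip]
        · left
          rw [show D.t * d⁻¹ * D.t⁻¹ = (D.t * d * D.t⁻¹)⁻¹ by group, e2, ← hflip]
          rw [show a * (a * d * a⁻¹) * a⁻¹ = (a * a) * d * (a * a)⁻¹ by group, D.X_sq (y : D.X).2]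
          group
    set uu := (a * D.t) ^ i
    have hfix : a * (uu * d * uu⁻¹) * a⁻¹ = uu * d * uu⁻¹ := by
      calc a * (uu * d * uu⁻¹) * a⁻¹ = (uu * D.t * uu⁻¹) * (uu * d * uu⁻¹) * (uu * D.t * uu⁻¹)⁻¹ := by rw [← hi]
      _ = uu * (D.t * d * D.t⁻¹) * uu⁻¹ := by group
      _ = uu * d * uu⁻¹ := by rw [htd, mul_inv_cancel_right]
    have hdd : d * d = 1 := by
      rcases hpow i with h1 | h1 <;> rw [h1] at hfix
      · rw [hflip] at hfix
        calc d * d = d⁻¹ * d := by rw [hfix]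
        _ = 1 := by group
      · rw [show a * d⁻¹ * a⁻¹ = (a * d * a⁻¹)⁻¹ by group, hflip, inv_inv] at hfix
        calc d * d = d * d⁻¹ := by rw [← hfix]
        _ = 1 := by group
    have hd1 : d = 1 := by
      have h2 := orderOf_dvd_of_pow_eq_one (show d ^ 2 = 1 by rw [pow_two, hdd])
      rcases (Nat.dvd_prime Nat.prime_two).mp h2 with h3 | h3
      · exact orderOf_eq_one_iff.mp h3
      · rw [h3] at hodd; exact absurd hodd (by decide)
    have hab1 : a * b = 1 := hd1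
    have : a = b := (eq_inv_of_mul_eq_one_left hab1).trans (D.X_inv (y' : D.X).2)
    exact Subtype.ext (Subtype.ext this)
  have h1 : 1463 ≤ Nat.card (D.P x0) := by
    refine le_trans ?_ (Nat.card_le_card_of_injective π hπ)
    rw [Nat.card_eq_fintype_card, Fintype.card_coe]
    exact hbig
  haveI : IsSimpleGroup D.H := by
    haveI := D.Q_simple
    haveI : Nontrivial D.H := ⟨⟨⟨D.t, D.E_le_H D.t_mem⟩, 1, fun e => D.t_ne (congrArg Subtype.val e)⟩⟩
    exact MulEquiv.isSimpleGroup ((QuotientGroup.quotientBot (G := D.H)).symm.trans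
      (QuotientGroup.quotientMulEquivOfEq D.Z_eq_bot.symm))
  have h2 := odd_card_lt D.card_H (D.P x0) (D.odd_P hx0 hx0M)
  omega

theorem normalClosure_eq : Subgroup.normalClosure ({D.t} : Set G) = D.H := by
  rw [normalClosure, H]
  congr 1
  ext x
  simp only [Group.mem_conjugatesOfSet_iff, Set.mem_singleton_iff, exists_eq_left, isConj_iff]
  constructor
  · rintro ⟨g, rfl⟩; exact D.Δ_eq_X ⟨g, rfl⟩
  · intro hx; obtain ⟨g, hg⟩ := D.Δ_sub hx; exact ⟨g, hg.symm⟩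

end Sys

end CfsgLib.WeakJ1
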